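import Groth.Agent.WeakNorm.AwnLoc
import Groth.Agent.WeakNorm.AwnLocal
import Mathlib.AlgebraicGeometry.Morphisms.SchemeTheoreticallyDominant
import Mathlib.AlgebraicGeometry.Morphisms.Finite

/-!
Schematic dominance and finiteness for a factorisation of a normalisation through a seminormalisation.
-/

set_option autoImplicit false
set_option linter.style.haveILetI false
set_option backward.isDefEq.respectTransparency false
set_option backward.isDefEq.respectTransparency.types false

universe u

open CategoryTheory AlgebraicGeometry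

namespace Groth.Agent.SNDom

lemma finite_of_comp_injective {A B C : Type u} [CommRing A] [CommRing B] [CommRing C] [IsNoetherianRing A]
    (φ : A →+* B) (ψ : B →+* C) (hψ : Function.Injective ψ) (h : (ψ.comp φ).Finite) : φ.Finite := by
  algebraize [φ, ψ, ψ.comp φ]
  exact Module.Finite.of_injective (IsScalarTower.toAlgHom A B C).toLinearMap hψ

/-- A homeomorphic factor of a birational dominant morphism to a reduced scheme is schematically dominant,
as is the other factor; finiteness descends. -/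
theorem dominant_and_finite {S Sn X' : Scheme.{u}} [IsLocallyNoetherian S] [IsReduced S] [IsReduced X']
    (g : Sn ⟶ X') (ν : X' ⟶ S) (hν : FlatMor.IsUnivHomeo ν)
    [IsIntegralHom (g ≫ ν)] (U : S.Opens) (hU : Dense (U : Set S)) (hiso : IsIso ((g ≫ ν) ∣_ U)) :
    (IsSchemeTheoreticallyDominant ν ∧ IsSchemeTheoreticallyDominant g) ∧
      (IsFinite (g ≫ ν) → IsFinite ν ∧ IsFinite g) := by
  obtain ⟨hint, hinj, hsurj⟩ := (WeakNorm.isUnivHomeo_iff ν).1 hν
  have hhom : IsHomeomorph ν := hν (𝟙 _) (𝟙 _) ν IsPullback.of_id_fst.flip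
  haveI : IsDominant g := by
    refine ⟨?_⟩
    have hsub : ν ⁻¹' (U : Set S) ⊆ Set.range g := by
      intro x hx
      haveI := hiso
      obtain ⟨p, hp⟩ := ((g ≫ ν) ∣_ U).surjective ⟨ν x, hx⟩
      refine ⟨((g ≫ ν) ⁻¹ᵁ U).ι p, hhom.injective ?_⟩
      calc ν (g (((g ≫ ν) ⁻¹ᵁ U).ι p)) = (((g ≫ ν) ⁻¹ᵁ U).ι ≫ g ≫ ν) p := by simp
        _ = (((g ≫ ν) ∣_ U) ≫ U.ι) p := by rw [morphismRestrict_ι]
        _ = U.ι (((g ≫ ν) ∣_ U) p) := by rw [Scheme.Hom.comp_apply]
        _ = ν x := by rw [hp]; rfl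
    exact (hU.preimage hhom.isOpenMap).mono hsub
  haveI hgST : IsSchemeTheoreticallyDominant g := .of_isDominant g
  refine ⟨⟨.of_isDominant ν, hgST⟩, fun hfin => ?_⟩
  haveI := hfin
  have hg : IsFinite g := MorphismProperty.of_postcomp (W := @IsFinite) (W' := @IsSeparated) g ν inferInstance hfin
  refine ⟨(isFinite_iff ν).2 ⟨inferInstance, fun A hA => ?_⟩, hg⟩
  haveI : IsNoetherianRing Γ(S, A) := IsLocallyNoetherian.component_noetherian ⟨A, hA⟩
  have hf : ((g ≫ ν).app A).hom.Finite := (g ≫ ν).finite_app A hA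
  exact finite_of_comp_injective (ν.app A).hom (g.app (ν ⁻¹ᵁ A)).hom (g.app_injective _) hf

end Groth.Agent.SNDom
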